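import Cfsg.Agent.S1657
import Cfsg.Agent.S1693
import Cfsg.Agent.S2140
import Cfsg.Agent.S0243
import Cfsg.Agent.KFacts.ON.Words_m3
import Cfsg.Agent.H904.SylOne
import Cfsg.Agent.H715.Fpr.Row4_m3
import Cfsg.Agent.H296.ONCore
import Cfsg.Agent.H940.EngData
import Cfsg.Agent.FastGrp
import Cfsg.Agent.Prune
set_option linter.all false

section
prune_inst 0x7f00000000000000000000000000000000000000000000000000000000000000000000000000000000000000000000000000000000000000000000000000000000000000000000000000000000000000003fffffffffffffffffffffffffffbeffbdffbfffff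

-- part: H493/Sep/ONData
section
set_option linter.all false
open scoped Cfsg.Agent.FastGrp

-- part: H493/Sep/ONGeo
section
/-!
# The subgroup `L₃(7) : 2` of the O'Nan group and the elements of order 19 (helper493)

`exists_H` : a subgroup `H` of index 122760 with a normal subgroup `N ≅ L₃(7)` of index 2, and the orbits of `H`;
`normalizer_le` : the normalizer of a subgroup of order 19 of `H` lies in `H`; `no_seven` : in a simple group with a subgroup of
index 57 and of order prime to 19 no element of order 19 commutes with an element of order 7.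
-/

set_option autoImplicit false
set_option maxRecDepth 100000

namespace Cfsg.Agent.H493.Sep.ONGeo

open Subgroup Cfsg
open Cfsg.Spor (ON)
open Cfsg.Agent.SporadicB.ON45Word (on)

theorem card : Nat.card ON = 460815505920 := Cfsg.Agent.KFacts.ON.Cent.hON.2

theorem exists_H : ∃ (H : Subgroup ON) (N : Subgroup H), N.Normal ∧ N.index = 2 ∧
    Nonempty (N ≃* Matrix.ProjectiveSpecialLinearGroup (Fin 3) (ZMod 7)) ∧ H.index = 122760 ∧
    ∃ q₁ q₂ q₃ q₄ : ON ⧸ H, (MulAction.orbit H q₁).ncard = 6384 ∧ (MulAction.orbit H q₂).ncard = 5586 ∧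
      (MulAction.orbit H q₃).ncard = 58653 ∧ (MulAction.orbit H q₄).ncard = 52136 := by
  have hfin := Cfsg.Agent.KFacts.ON.Cent.finite_ON
  obtain ⟨N, hN, hN2, ⟨e⟩⟩ := Cfsg.Agent.S1693.result
  obtain ⟨h1, h2⟩ := Cfsg.Agent.ONType.S1657Final.final (MulEquiv.refl ON) (on .f)
    Cfsg.Agent.ONType.S1657Final.orderOf_f
    (fun s hs => Cfsg.Agent.KFacts.ON.OneClass.one_class (by rw [← pow_two, ← hs, pow_orderOf_eq_one])
      (fun h => by rw [h, orderOf_one] at hs; omega))
    Cfsg.Agent.S1699.result Cfsg.Agent.S1692.result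
    (fun h1 h2 h3 => Cfsg.Agent.ONType.TupleClass.tupleConj_of h1 h2 h3)
    Cfsg.Agent.KFacts.ON.Cent.card_cent _ N hN2 e
  exact ⟨_, N, hN, hN2, ⟨e⟩, h1, h2⟩

section orbits

variable {H : Subgroup ON} {q₁ q₂ q₃ q₄ : ON ⧸ H}

/-- every point different from the base point lies in an orbit of length divisible by 19 -/
theorem orbit_dvd (hi : H.index = 122760) (h1 : (MulAction.orbit H q₁).ncard = 6384)
    (h2 : (MulAction.orbit H q₂).ncard = 5586) (h3 : (MulAction.orbit H q₃).ncard = 58653)
    (h4 : (MulAction.orbit H q₄).ncard = 52136) {x : ON ⧸ H} (hx : x ≠ ((1 : ON) : ON ⧸ H)) :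
    19 ∣ (MulAction.orbit H x).ncard := by
  classical
  have hfin := Cfsg.Agent.KFacts.ON.Cent.finite_ON
  have h0 : MulAction.orbit H ((1 : ON) : ON ⧸ H) = {((1 : ON) : ON ⧸ H)} := by
    ext y
    constructor
    · rintro ⟨h, rfl⟩
      show (((h : ON) * 1 : ON) : ON ⧸ H) = ((1 : ON) : ON ⧸ H)
      rw [mul_one, QuotientGroup.eq]
      simp
    · rintro rfl
      exact MulAction.mem_orbit_self _
  have h0' : (MulAction.orbit H ((1 : ON) : ON ⧸ H)).ncard = 1 := by rw [h0, Set.ncard_singleton]
  have dis : ∀ {a b : ON ⧸ H}, (MulAction.orbit H a).ncard ≠ (MulAction.orbit H b).ncard →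
      Disjoint (MulAction.orbit H a) (MulAction.orbit H b) := by
    intro a b hab
    rcases MulAction.orbit.eq_or_disjoint (G := H) a b with h | h
    · exact absurd (congrArg Set.ncard h) hab
    · exact h
  have d01 := dis (a := ((1 : ON) : ON ⧸ H)) (b := q₁) (by rw [h0', h1]; norm_num)
  have d02 := dis (a := ((1 : ON) : ON ⧸ H)) (b := q₂) (by rw [h0', h2]; norm_num)
  have d03 := dis (a := ((1 : ON) : ON ⧸ H)) (b := q₃) (by rw [h0', h3]; norm_num)
  have d04 := dis (a := ((1 : ON) : ON ⧸ H)) (b := q₄) (by rw [h0', h4]; norm_num)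
  have d12 := dis (a := q₁) (b := q₂) (by rw [h1, h2]; norm_num)
  have d13 := dis (a := q₁) (b := q₃) (by rw [h1, h3]; norm_num)
  have d14 := dis (a := q₁) (b := q₄) (by rw [h1, h4]; norm_num)
  have d23 := dis (a := q₂) (b := q₃) (by rw [h2, h3]; norm_num)
  have d24 := dis (a := q₂) (b := q₄) (by rw [h2, h4]; norm_num)
  have d34 := dis (a := q₃) (b := q₄) (by rw [h3, h4]; norm_num)
  set U := MulAction.orbit H ((1 : ON) : ON ⧸ H) ∪ (MulAction.orbit H q₁ ∪ (MulAction.orbit H q₂ ∪
    (MulAction.orbit H q₃ ∪ MulAction.orbit H q₄))) with hU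
  have hc : U.ncard = 122760 := by
    rw [hU, Set.ncard_union_eq, Set.ncard_union_eq, Set.ncard_union_eq, Set.ncard_union_eq, h0', h1, h2, h3, h4]
    · exact d34
    · exact Set.disjoint_union_right.2 ⟨d23, d24⟩
    · exact Set.disjoint_union_right.2 ⟨d12, Set.disjoint_union_right.2 ⟨d13, d14⟩⟩
    · exact Set.disjoint_union_right.2 ⟨d01, Set.disjoint_union_right.2 ⟨d02, Set.disjoint_union_right.2 ⟨d03, d04⟩⟩⟩
  have hUu : U = Set.univ := by
    apply Set.eq_of_subset_of_ncard_le (Set.subset_univ _)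
    rw [hc, Set.ncard_univ]
    exact hi.le
  have hxU : x ∈ U := by rw [hUu]; exact Set.mem_univ x
  have key : ∀ {q : ON ⧸ H} {k : ℕ}, x ∈ MulAction.orbit H q → (MulAction.orbit H q).ncard = k → 19 ∣ k →
      19 ∣ (MulAction.orbit H x).ncard := by
    intro q k hq hk hd
    rw [MulAction.orbit_eq_iff.2 hq, hk]
    exact hd
  rcases hxU with h | h | h | h | h
  · rw [h0] at h
    exact absurd h hx
  · exact key h h1 (by norm_num)
  · exact key h h2 (by norm_num)
  · exact key h h3 (by norm_num)
  · exact key h h4 (by norm_num)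

theorem normalizer_le (hi : H.index = 122760) (h1 : (MulAction.orbit H q₁).ncard = 6384)
    (h2 : (MulAction.orbit H q₂).ncard = 5586) (h3 : (MulAction.orbit H q₃).ncard = 58653)
    (h4 : (MulAction.orbit H q₄).ncard = 52136) {R : Subgroup ON} (hR : Nat.card R = 19) (hRH : R ≤ H) :
    normalizer (R : Set ON) ≤ H := by
  have hfin := Cfsg.Agent.KFacts.ON.Cent.finite_ON
  intro n hn
  by_contra hnH
  have hx : ((n : ON) : ON ⧸ H) ≠ ((1 : ON) : ON ⧸ H) := by
    intro h
    rw [QuotientGroup.eq] at h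
    apply hnH
    have h5 := H.inv_mem h
    simpa using h5
  have hd := orbit_dvd hi h1 h2 h3 h4 hx
  have hst : R.subgroupOf H ≤ MulAction.stabilizer H ((n : ON) : ON ⧸ H) := by
    rintro ⟨ρ, hρH⟩ hρ
    rw [mem_subgroupOf] at hρ
    rw [MulAction.mem_stabilizer_iff]
    show ((ρ * n : ON) : ON ⧸ H) = ((n : ON) : ON ⧸ H)
    rw [QuotientGroup.eq]
    have h5 : n⁻¹ * ρ * n ∈ R := by
      refine (mem_normalizer_iff.1 hn (n⁻¹ * ρ * n)).2 ?_
      have h6 : n * (n⁻¹ * ρ * n) * n⁻¹ = ρ := by group
      rw [h6]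
      exact hρ
    have h7 : (ρ * n)⁻¹ * n = (n⁻¹ * ρ * n)⁻¹ := by group
    rw [h7]
    exact H.inv_mem (hRH h5)
  have h5 : 19 ∣ Nat.card (MulAction.stabilizer H ((n : ON) : ON ⧸ H)) := by
    have h6 : Nat.card (R.subgroupOf H) = 19 := by
      rw [Nat.card_congr (subgroupOfEquivOfLe hRH).toEquiv, hR]
    rw [← h6]
    exact card_dvd_of_le hst
  have h6 := card_mul_index (MulAction.stabilizer H ((n : ON) : ON ⧸ H))
  rw [MulAction.index_stabilizer] at h6
  have h7 : 19 * 19 ∣ Nat.card H := by
    rw [← h6]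
    exact Nat.mul_dvd_mul h5 hd
  have h8 := h7.trans (card_subgroup_dvd_card H)
  rw [card] at h8
  norm_num at h8

end orbits

/-- no element of order 19 commutes with an element of order 7 -/
theorem no_seven {L : Type*} [Group L] [Finite L] [IsSimpleGroup L] (K : Subgroup L) (hK : K.index = 57)
    (h19 : ¬ 19 ∣ Nat.card K) {x y : L} (hx : orderOf x = 19) (hy : orderOf y = 7) (hxy : x * y = y * x) : False := by
  classical
  have f7 : Fact (Nat.Prime 7) := ⟨by norm_num⟩
  have f19 : Fact (Nat.Prime 19) := ⟨by norm_num⟩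
  have hcard : Nat.card (L ⧸ K) = 57 := hK
  -- the fixed points of `y`
  have hF := (IsPGroup.of_card (p := 7) (n := 1) (by rw [Nat.card_zpowers, hy, pow_one]) : IsPGroup 7 (zpowers y)).card_modEq_card_fixedPoints (L ⧸ K)
  rw [hcard] at hF
  let F : SubMulAction (zpowers x) (L ⧸ K) :=
    { carrier := MulAction.fixedPoints (zpowers y) (L ⧸ K)
      smul_mem' := by
        rintro ⟨_, i, rfl⟩ p hp
        rw [MulAction.mem_fixedPoints] at hp ⊢
        rintro ⟨_, j, rfl⟩
        have h1 := hp ⟨y ^ j, j, rfl⟩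
        have h2 : y ^ j • (x ^ i • p) = x ^ i • (y ^ j • p) := by
          rw [← mul_smul, ← mul_smul]
          have h3 : Commute x y := hxy
          rw [((h3.zpow_zpow i j).eq)]
        have h4 : y ^ j • p = p := h1
        show y ^ j • (x ^ i • p) = x ^ i • p
        rw [h2, h4] }
  have hF2 := (IsPGroup.of_card (p := 19) (n := 1) (by rw [Nat.card_zpowers, hx, pow_one]) : IsPGroup 19 (zpowers x)).card_modEq_card_fixedPoints F
  have h0 : Nat.card (MulAction.fixedPoints (zpowers x) F) = 0 := by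
    rw [Nat.card_eq_zero]
    left
    constructor
    rintro ⟨⟨p, hp⟩, hp'⟩
    rw [MulAction.mem_fixedPoints] at hp'
    have h1 := hp' ⟨x, mem_zpowers x⟩
    have h2 : x • p = p := congrArg (fun w : F => (w : L ⧸ K)) h1
    obtain ⟨g, rfl⟩ := QuotientGroup.mk_surjective p
    have h3 : ((x * g : L) : L ⧸ K) = (g : L ⧸ K) := h2
    rw [QuotientGroup.eq] at h3
    have h4 : g⁻¹ * x * g ∈ K := by
      have h5 := K.inv_mem h3
      have h6 : ((x * g)⁻¹ * g)⁻¹ = g⁻¹ * x * g := by group
      rwa [h6] at h5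
    apply h19
    have h5 : orderOf (g⁻¹ * x * g) = 19 := by
      rw [← hx]
      have h6 := MulEquiv.orderOf_eq (MulAut.conj g⁻¹) x
      simpa [MulAut.conj_apply] using h6
    rw [← h5, ← Subgroup.orderOf_mk _ h4]
    exact orderOf_dvd_natCard _
  rw [h0] at hF2
  have hFc : Nat.card F = Nat.card (MulAction.fixedPoints (zpowers y) (L ⧸ K)) := rfl
  have hle : Nat.card F ≤ 57 := by
    rw [← hcard]
    exact Nat.card_le_card_of_injective (fun w : F => (w : L ⧸ K)) Subtype.val_injective
  rw [← hFc] at hF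
  have hF57 : Nat.card F = 57 := by
    have h1 : Nat.card F % 19 = 0 := hF2
    have h2 : 57 % 7 = Nat.card F % 7 := hF
    generalize Nat.card F = m at *
    omega
  have hall : ∀ p : L ⧸ K, y • p = p := by
    intro p
    have h1 : (Set.univ : Set (L ⧸ K)) = MulAction.fixedPoints (zpowers y) (L ⧸ K) := by
      symm
      apply Set.eq_of_subset_of_ncard_le (Set.subset_univ _)
      rw [Set.ncard_univ, hcard]
      have : (MulAction.fixedPoints (zpowers y) (L ⧸ K)).ncard = Nat.card F := rfl
      rw [this, hF57]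
    have h2 : p ∈ MulAction.fixedPoints (zpowers y) (L ⧸ K) := by rw [← h1]; exact Set.mem_univ p
    exact (MulAction.mem_fixedPoints.1 h2) ⟨y, mem_zpowers y⟩
  have hy1 : y ∈ K.normalCore := by
    intro g
    have h1 := hall ((g⁻¹ : L) : L ⧸ K)
    have h2 : ((y * g⁻¹ : L) : L ⧸ K) = ((g⁻¹ : L) : L ⧸ K) := h1
    rw [QuotientGroup.eq] at h2
    have h5 := K.inv_mem h2
    have h6 : ((y * g⁻¹)⁻¹ * g⁻¹)⁻¹ = g * y * g⁻¹ := by group
    rwa [h6] at h5
  rcases (inferInstance : K.normalCore.Normal).eq_bot_or_eq_top with h | h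
  · rw [h, mem_bot] at hy1
    rw [hy1, orderOf_one] at hy
    exact absurd hy (by norm_num)
  · have h1 : K = ⊤ := top_le_iff.1 (by rw [← h]; exact normalCore_le K)
    rw [h1, index_top] at hK
    exact absurd hK (by norm_num)

end Cfsg.Agent.H493.Sep.ONGeo
end

-- part: H493/Sep/ONData
section
/-!
# Local data of the O'Nan group at the primes 11, 19, 31 (helper493)
-/

set_option autoImplicit false
set_option maxRecDepth 100000

namespace Cfsg.Agent.H493.Sep.ONLoc

open Subgroup Cfsg.Agent.OrdDiv Cfsg.Agent.H940 Cfsg.Agent.H940.Eng Cfsg.Agent.H940.Eng.D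
open Cfsg.Agent.SporadicB.ON45Word (on)

abbrev G : Type := Cfsg.Spor.ON

theorem simple : IsSimpleGroup G := Cfsg.Agent.KFacts.ON.Cent.hON.1
theorem card : Nat.card G = n_opn := Cfsg.Agent.KFacts.ON.Cent.hON.2
theorem fin : Finite G := Cfsg.Agent.KFacts.ON.Cent.finite_ON
theorem card_cent : Nat.card (centralizer ({on .f} : Set G)) = 161280 := Cfsg.Agent.KFacts.ON.Cent.card_cent

theorem na : ¬ ∀ a b : G, a * b = b * a := by
  intro h
  have h2 : centralizer ({on .f} : Set G) = ⊤ := by
    rw [eq_top_iff]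
    intro x _
    rw [mem_centralizer_singleton_iff]
    exact h _ _
  have h1 := card_cent
  rw [h2, card_top, card] at h1
  exact absurd h1 (by decide)

theorem not_sq {r : ℕ} (h : (n_opn % (r ^ 2) != 0) = true) : ¬ r ^ 2 ∣ Nat.card G := by
  rw [card]
  intro h'
  rw [Nat.dvd_iff_mod_eq_zero] at h'
  rw [h'] at h
  exact absurd h (by decide)

theorem odd_cent {r : ℕ} (hr : r.Prime) (hrd : ¬ r ∣ 161280) {R : Subgroup G} (hR : Nat.card R = r) :
    ¬ 2 ∣ Nat.card (centralizer (R : Set G)) := by
  have := fin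
  refine not_dvd_cent hr Nat.prime_two hR fun s hs => ?_
  have h1 : s * s = 1 := by rw [← pow_two, ← hs, pow_orderOf_eq_one]
  have h2 : s ≠ 1 := fun h => by rw [h, orderOf_one] at hs; omega
  have h3 := Cfsg.Agent.Blocks.SylowIn.card_centralizer_of_isConj (Cfsg.Agent.KFacts.ON.OneClass.one_class h1 h2)
  intro hd
  apply hrd
  rw [← card_cent]
  rw [h3]
  exact hd

theorem exists_elt {r : ℕ} (hr : r.Prime) {R : Subgroup G} (hR : Nat.card R = r) : ∃ x ∈ R, orderOf x = r := by
  have := fin
  have := Fact.mk hr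
  obtain ⟨x, hx⟩ := exists_prime_orderOf_dvd_card' (G := R) r (by rw [hR])
  exact ⟨x, x.2, by rw [Subgroup.orderOf_coe, hx]⟩

/-- from the elements which do not commute -/
theorem no_of_elts {q r : ℕ} (hq : q.Prime) (hr : r.Prime) (h : ∀ x y : G, orderOf x = r → orderOf y = q → x * y ≠ y * x)
    {R : Subgroup G} (hR : Nat.card R = r) : ¬ q ∣ Nat.card (centralizer (R : Set G)) := by
  intro hd
  have := fin
  have := Fact.mk hq
  obtain ⟨y, hy⟩ := exists_prime_orderOf_dvd_card' q hd
  obtain ⟨x, hxR, hx⟩ := exists_elt hr hR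
  exact h x y hx (by rw [Subgroup.orderOf_coe, hy]) (mem_centralizer_iff.1 y.2 x hxR)

theorem exists_cent {q r : ℕ} (hq : q.Prime) {R : Subgroup G} (hR : Nat.card R = r) (hd : q ∣ Nat.card (centralizer (R : Set G))) :
    ∃ Q : Subgroup G, Nat.card Q = q ∧ r ∣ Nat.card (centralizer (Q : Set G)) := by
  have := fin
  have := Fact.mk hq
  obtain ⟨y, hy⟩ := exists_prime_orderOf_dvd_card' q hd
  refine ⟨zpowers (y : G), by rw [Nat.card_zpowers, Subgroup.orderOf_coe, hy], ?_⟩
  rw [← hR]
  refine card_dvd_of_le ?_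
  intro x hx
  rw [mem_centralizer_iff]
  rintro _ ⟨i, rfl⟩
  have h1 : Commute (y : G) x := ((mem_centralizer_iff.1 y.2) x hx).symm
  exact (h1.zpow_left i).eq

/-! ### the prime 19 -/

theorem card_psl : Nat.card (Matrix.ProjectiveSpecialLinearGroup (Fin 3) (ZMod 7)) = 1876896 := by
  have h := Cfsg.Agent.S0243.result (F := ZMod 7) (q := 7) (ZMod.card 7) 3 (by norm_num)
  simp only [Fin.prod_univ_three] at h
  have h2 : Nat.gcd 3 (7 - 1) * ((7 - 1) * Nat.card (Matrix.ProjectiveSpecialLinearGroup (Fin 3) (ZMod 7))) =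
    (343 - 1) * (343 - 7) * (343 - 49) := h
  have h3 : Nat.gcd 3 (7 - 1) = 3 := by decide
  rw [h3] at h2
  omega

/-- the pairs `(|C|, |N|)` for `19` -/
theorem data19 {R : Subgroup G} (hR : Nat.card R = 19) : Nat.card (centralizer (R : Set G)) ∣ 57 ∧
    Nat.card (normalizer (R : Set G)) ∣ 114 := by
  have := fin
  have := simple
  have h19 : Fact (Nat.Prime 19) := ⟨by norm_num⟩
  obtain ⟨H, N, hNn, hN2, ⟨e⟩, hi, q₁, q₂, q₃, q₄, k1, k2, k3, k4⟩ := ONGeo.exists_H
  have hHc : Nat.card H = 3753792 := by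
    have h1 := card_mul_index H
    rw [hi, card] at h1
    have h2 : n_opn = 3753792 * 122760 := by decide +kernel
    rw [h2] at h1
    exact Nat.eq_of_mul_eq_mul_right (by norm_num) h1
  -- a subgroup of order 19 of `H`
  obtain ⟨x, hx⟩ := exists_prime_orderOf_dvd_card' (G := H) 19 (by rw [hHc]; norm_num)
  set R0 : Subgroup G := zpowers (x : G) with hR0
  have hR0c : Nat.card R0 = 19 := by rw [hR0, Nat.card_zpowers, Subgroup.orderOf_coe, hx]
  have hR0H : R0 ≤ H := by rw [hR0, zpowers_le]; exact x.2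
  have hN := ONGeo.normalizer_le hi k1 k2 k3 k4 hR0c hR0H
  have hodd := odd_cent (by norm_num) (by norm_num) hR0c
  have hCH := (Subgroup.centralizer_le_normalizer (R0 : Set G)).trans hN
  -- elements of odd order of `H` lie in `N`
  have hmem : ∀ c : H, Odd (orderOf c) → c ∈ N := by
    intro c hc
    have h1 : orderOf ((QuotientGroup.mk' N) c) ∣ orderOf c := orderOf_map_dvd _ _
    have h2 : orderOf ((QuotientGroup.mk' N) c) ∣ 2 := by
      rw [← hN2]
      exact orderOf_dvd_natCard _
    have h3 : orderOf ((QuotientGroup.mk' N) c) = 1 :=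
      Nat.eq_one_of_dvd_coprimes (Nat.coprime_two_right.2 hc) h1 h2
    rwa [orderOf_eq_one_iff, QuotientGroup.mk'_apply, QuotientGroup.eq_one_iff] at h3
  have hno7 : ¬ 7 ∣ Nat.card (centralizer (R0 : Set G)) := by
    intro hd
    have f7 : Fact (Nat.Prime 7) := ⟨by norm_num⟩
    obtain ⟨y, hy⟩ := exists_prime_orderOf_dvd_card' 7 hd
    have hyH : (y : G) ∈ H := hCH y.2
    have hyo : orderOf (⟨(y : G), hyH⟩ : H) = 7 := by rw [Subgroup.orderOf_mk, Subgroup.orderOf_coe, hy]
    have hyN := hmem ⟨(y : G), hyH⟩ (by rw [hyo]; decide)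
    have hxN := hmem x (by rw [hx]; decide)
    -- in `PSL₃(7)`
    have hs : IsSimpleGroup (Matrix.ProjectiveSpecialLinearGroup (Fin 3) (ZMod 7)) := Cfsg.Agent.SporRec.ONL37.simple_PSL37
    obtain ⟨-, K, hK⟩ := Cfsg.Agent.S2140.result (F := ZMod 7) (q := 7) (ZMod.card 7) 3 le_rfl (by norm_num)
    have hK57 : K.index = 57 := hK
    have hKc : ¬ 19 ∣ Nat.card K := by
      have h1 := card_mul_index K
      rw [hK57, card_psl] at h1
      intro h2
      omega
    refine ONGeo.no_seven K hK57 hKc (x := e ⟨x, hxN⟩) (y := e ⟨⟨(y : G), hyH⟩, hyN⟩) ?_ ?_ ?_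
    · rw [MulEquiv.orderOf_eq, Subgroup.orderOf_mk, hx]
    · rw [MulEquiv.orderOf_eq, Subgroup.orderOf_mk, hyo]
    · rw [← map_mul, ← map_mul]
      congr 1
      apply Subtype.ext
      apply Subtype.ext
      exact (mem_centralizer_iff.1 y.2 (x : G) (by rw [hR0]; exact mem_zpowers _))
  have hC : Nat.card (centralizer (R0 : Set G)) ∣ prodl [(3, 2), (19, 1)] := by
    have h1 := card_dvd_of_le hCH
    rw [hHc] at h1
    have h2 : Nat.card (centralizer (R0 : Set G)) ∣ 2 ^ 6 * (7 ^ 3 * 171) := h1.trans (by norm_num)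
    have h3 := (Nat.Coprime.pow_right 6 ((Nat.Prime.coprime_iff_not_dvd Nat.prime_two).2 hodd).symm).dvd_of_dvd_mul_left h2
    have h4 := (Nat.Coprime.pow_right 3 ((Nat.Prime.coprime_iff_not_dvd (by norm_num : Nat.Prime 7)).2 hno7).symm).dvd_of_dvd_mul_left h3
    exact h4.trans (by decide +kernel)
  -- Sylow's theorem in `H`
  have hRs : Nat.card (R0.subgroupOf H) = 19 := by
    rw [Nat.card_congr (subgroupOfEquivOfLe hR0H).toEquiv, hR0c]
  obtain ⟨s, hs, hs1⟩ := H904.SylOne.card_normalizer_mod hRs (by rw [hHc]; norm_num)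
  have hNH : Nat.card (normalizer ((R0.subgroupOf H : Subgroup H) : Set H)) = Nat.card (normalizer (R0 : Set G)) := by
    have h1 : (normalizer ((R0.subgroupOf H : Subgroup H) : Set H)).map H.subtype = normalizer (R0 : Set G) := by
      ext y
      rw [mem_map]
      constructor
      · rintro ⟨z, hz, rfl⟩
        rw [mem_normalizer_iff]
        intro w
        constructor
        · intro hw
          have h2 := (mem_normalizer_iff.1 hz ⟨w, hR0H hw⟩).1 (mem_subgroupOf.2 hw)
          exact mem_subgroupOf.1 h2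
        · intro hw
          have h3 : H.subtype z * w * (H.subtype z)⁻¹ ∈ H := hR0H hw
          have h4 : w ∈ H := by
            have h5 := mul_mem (mul_mem (inv_mem z.2) h3) z.2
            have h6 : (z : G)⁻¹ * (H.subtype z * w * (H.subtype z)⁻¹) * z = w := by
              show (z : G)⁻¹ * ((z : G) * w * (z : G)⁻¹) * z = w
              group
            rwa [h6] at h5
          have h2 := (mem_normalizer_iff.1 hz ⟨w, h4⟩).2 (mem_subgroupOf.2 hw)
          exact mem_subgroupOf.1 h2
      · intro hy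
        refine ⟨⟨y, hN hy⟩, ?_, rfl⟩
        rw [mem_normalizer_iff]
        intro w
        exact mem_normalizer_iff.1 hy w
    rw [← h1, card_map_of_injective H.subtype_injective]
  rw [hHc, hNH] at hs
  have h2 := cnP_sound na card (r := 19) (by decide +kernel) (by decide +kernel) (by decide +kernel) hR0c hC
    (P := fun c m => 3753792 % m != 0 || (3753792 / m) % 19 != 1 || (57 % c == 0 && 114 % m == 0))
    (by decide +kernel) hR0c
  have hNpos : 0 < Nat.card (normalizer (R0 : Set G)) := Nat.card_pos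
  have h3 : 3753792 % Nat.card (normalizer (R0 : Set G)) = 0 := Nat.mod_eq_zero_of_dvd ⟨s, hs⟩
  have h4 : 3753792 / Nat.card (normalizer (R0 : Set G)) = s := Nat.div_eq_of_eq_mul_right hNpos hs
  have h5 : s % 19 = 1 := hs1
  rw [h3, h4, h5] at h2
  simp only [bne_self_eq_false, Bool.false_or, Bool.and_eq_true, beq_iff_eq] at h2
  have h19' := not_sq (r := 19) (by decide +kernel)
  obtain ⟨S, hS⟩ := H904.SylOne.exists_sylow hR h19'
  obtain ⟨S', hS'⟩ := H904.SylOne.exists_sylow hR0c h19'
  have hCe := H904.SylOne.card_centralizer_eq hR hR0c h19'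
  have hNe : Nat.card (normalizer (R : Set G)) = Nat.card (normalizer (R0 : Set G)) := by
    rw [← hS, ← hS']
    have e1 := Sylow.card_eq_index_normalizer S
    have e2 := Sylow.card_eq_index_normalizer S'
    have e3 := card_mul_index (normalizer ((S : Subgroup G) : Set G))
    have e4 := card_mul_index (normalizer ((S' : Subgroup G) : Set G))
    have e5 : (normalizer ((S : Subgroup G) : Set G)).index = (normalizer ((S' : Subgroup G) : Set G)).index := e1.symm.trans e2
    rw [e5, ← e4] at e3
    exact Nat.eq_of_mul_eq_mul_right (Nat.pos_of_ne_zero index_ne_zero_of_finite) e3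
  rw [hCe, hNe]
  exact ⟨Nat.dvd_of_mod_eq_zero h2.1, Nat.dvd_of_mod_eq_zero h2.2⟩

theorem loc19 : Loc G ⟨19, 57, [(2, 1), (3, 1), (19, 1)]⟩ := by
  refine loc_of_eq card (by decide +kernel) (by decide +kernel) (by decide +kernel) fun R hR => ?_
  obtain ⟨h1, h2⟩ := data19 hR
  exact ⟨h1, h2.trans (by decide +kernel)⟩

theorem no19 {r : ℕ} (hr : ¬ r ∣ 57) {R : Subgroup G} (hR : Nat.card R = r) :
    ¬ 19 ∣ Nat.card (centralizer (R : Set G)) := by
  intro hd
  obtain ⟨Q, hQ, hQd⟩ := exists_cent (by norm_num) hR hd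
  exact hr (hQd.trans (data19 hQ).1)

/-! ### the prime 31 -/

theorem dvd31 (B : Base) {R : Subgroup G} (hR : Nat.card R = 31) :
    Nat.card (centralizer (R : Set G)) ∣ prodl [(5, 1), (7, 3), (11, 1), (31, 1)] := by
  have h := dvd_filter (m := Nat.card (centralizer (R : Set G))) v_opn (by rw [← card]; exact card_subgroup_dvd_card _)
    [2, 3, 19] (by
    intro p hp
    simp only [List.mem_cons, List.not_mem_nil, or_false] at hp
    rcases hp with rfl | rfl | rfl
    · exact odd_cent (by norm_num) (by norm_num) hR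
    · exact no_of_elts (by norm_num) (by norm_num)
        (fun x y hx hy => H296.ONCore.not_comm_three (fun S _ _ hS => B.known S hS) B.table hx hy) hR
    · exact no19 (by norm_num) hR)
  exact h.trans (by decide +kernel)

theorem loc31 (B : Base) : Loc G ⟨31, 7595, [(2, 1), (3, 1), (5, 1), (7, 2), (31, 1)]⟩ := by
  have := fin
  have := simple
  obtain ⟨R, hR⟩ := exists_card_eq (G := G) (r := 31) (by decide +kernel) (by rw [card]; decide +kernel)
  exact loc_of_cent na card (by decide +kernel) (by decide +kernel) (by decide +kernel) hR (dvd31 B hR) (by decide +kernel)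
    (by decide +kernel)

/-! ### the prime 11 -/

theorem dvd11 (B : Base) {R : Subgroup G} (hR : Nat.card R = 11) :
    Nat.card (centralizer (R : Set G)) ∣ prodl [(3, 4), (5, 1), (11, 1)] := by
  have h := dvd_filter (m := Nat.card (centralizer (R : Set G))) v_opn (by rw [← card]; exact card_subgroup_dvd_card _)
    [2, 7, 19, 31] (by
    intro p hp
    simp only [List.mem_cons, List.not_mem_nil, or_false] at hp
    rcases hp with rfl | rfl | rfl | rfl
    · exact odd_cent (by norm_num) (by norm_num) hR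
    · exact no_of_elts (by norm_num) (by norm_num) (fun x y hx hy => H296.ONCore.not_comm_seven hx hy) hR
    · exact no19 (by norm_num) hR
    · intro hd
      obtain ⟨Q, hQ, hQd⟩ := exists_cent (by norm_num) hR hd
      exact absurd (hQd.trans ((loc31 B).2.2.2 Q hQ).1) (by norm_num))
  exact h.trans (by decide +kernel)

theorem loc11 (B : Base) : Loc G ⟨11, 1485, [(2, 1), (3, 3), (5, 1), (11, 1)]⟩ := by
  have := fin
  have := simple
  obtain ⟨R, hR⟩ := exists_card_eq (G := G) (r := 11) (by decide +kernel) (by rw [card]; decide +kernel)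
  exact loc_of_cent na card (by decide +kernel) (by decide +kernel) (by decide +kernel) hR (dvd11 B hR) (by decide +kernel)
    (by decide +kernel)

end Cfsg.Agent.H493.Sep.ONLoc
end
end

-- part: H493/Sep/RowON
section
set_option linter.all false
open scoped Cfsg.Agent.FastGrp

-- part: H493/Sep/RowTools
section
/-!
# Small tools for the sporadic rows of S5906/S5907 (helper493)
-/

set_option autoImplicit false

namespace Cfsg.Agent.H493.Sep

open Subgroup Cfsg.Agent.OrdDiv Cfsg.Agent.H940 Cfsg.Agent.H940.Eng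

universe u

variable {G : Type u} [Group G] {n : ℕ}

theorem norm_ne_top [IsSimpleGroup G] (hc : Nat.card G = n) {Q : Subgroup G} {k : ℕ} (h1 : Nat.card Q = k) (h2 : k ≠ 1)
    (h3 : (k != n) = true) : normalizer (Q : Set G) ≠ ⊤ := by
  refine normalizer_ne_top ?_ ?_
  · rintro rfl
    rw [card_bot] at h1
    exact h2 h1.symm
  · rintro rfl
    rw [card_top, hc] at h1
    rw [bne_iff_ne] at h3
    exact h3 h1.symm

theorem card_sylow_eq [Finite G] (hc : Nat.card G = n) {p k : ℕ} [hp : Fact p.Prime] (P : Sylow p G) (h1 : n % p ^ k = 0)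
    (h2 : n % p ^ (k + 1) ≠ 0) : Nat.card (P : Subgroup G) = p ^ k := by
  have hn : n ≠ 0 := by rintro rfl; simp at h2
  rw [P.card_eq_multiplicity, hc]
  congr 1
  have h3 : k ≤ n.factorization p := (hp.out.pow_dvd_iff_le_factorization hn).1 (Nat.dvd_of_mod_eq_zero h1)
  have h4 : ¬ k + 1 ≤ n.factorization p := fun h => h2 (Nat.mod_eq_zero_of_dvd
    ((hp.out.pow_dvd_iff_le_factorization hn).2 h))
  omega

theorem full_of_singleton [Finite G] (hc : Nat.card G = n) {r : ℕ} {R : Subgroup G} (hr : isPrimeB r = true)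
    (h2 : (n % (r ^ 2) != 0) = true) (hR : Nat.card R = r) : ∀ p ∈ [r], Full p (normalizer (R : Set G)) := by
  intro p hp
  rw [List.mem_singleton.1 hp]
  exact full_of_card hc hr h2 hR

theorem full_sylow {p : ℕ} [hp : Fact p.Prime] (P : Sylow p G) : ∀ q ∈ [p], Full q (normalizer ((P : Subgroup G) : Set G)) := by
  intro q hq
  rw [List.mem_singleton.1 hq]
  exact full_normalizer hp.out P

theorem full_nil (A : Subgroup G) : ∀ p ∈ ([] : List ℕ), Full p A := fun _ hp => absurd hp List.not_mem_nil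

theorem dvd_norm {R : Subgroup G} {k : ℕ} (h : Nat.card R = k) : k ∣ Nat.card (normalizer (R : Set G)) := by
  rw [← h]
  exact card_dvd_of_le le_normalizer

theorem ne_top_of_card (hc : Nat.card G = n) {A : Subgroup G} {k : ℕ} (h : Nat.card A = k) (hk : (k != n) = true) : A ≠ ⊤ := by
  rintro rfl
  rw [card_top, hc] at h
  rw [bne_iff_ne] at hk
  exact hk h.symm

end Cfsg.Agent.H493.Sep
end

-- part: H493/Sep/RowON
section
/-!
# Row `O'N` of S5906/S5907 (helper493)

The covering argument with the Sylow normalizers for 3, 11, 31, the centralizer of an involution and `L₃(7) : 2`.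
-/

set_option autoImplicit false
set_option maxRecDepth 100000

namespace Cfsg.Agent.H493.Sep.RowON

open Subgroup Cfsg.Agent.OrdDiv Cfsg.Agent.H940 Cfsg.Agent.H940.Eng Cfsg.Agent.H940.Eng.D Cfsg.Agent.H940.MaxCls
  Cfsg.Agent.H493.Sep.ONLoc
open Cfsg.Agent.SporadicB.ON45Word (on)

/-- the local data -/
def loc : List LD := [⟨11, 1485, [(2, 1), (3, 3), (5, 1), (11, 1)]⟩, ⟨19, 57, [(2, 1), (3, 1), (19, 1)]⟩,
  ⟨31, 7595, [(2, 1), (3, 1), (5, 1), (7, 2), (31, 1)]⟩]

theorem ctx (B : Base) : Ctx G l_opn n_opn o_opn loc where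
  fin := fin
  simple := simple
  card := card
  val := v_opn
  nodup := nd_opn
  ords := ords_opn B
  loc := by
    intro ld hld
    simp only [loc, List.mem_cons, List.not_mem_nil, or_false] at hld
    rcases hld with rfl | rfl | rfl
    · exact loc11 B
    · exact loc19
    · exact loc31 B

/-- H -/
def iH : CI := ⟨0, 3753792, [], [3753792]⟩

def lH : List (ℕ × ℕ) := [(2, 3), (3, 2), (5, 1), (11, 1), (31, 1)]

theorem cH : chkF l_opn n_opn iH.a lH iH.ords iH.full 60 loc o_opn = true := by exact Cfsg.Agent.H493.Sep.chkF_fast (by decide +kernel)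

/-- N31 -/
def iN31 : CI := ⟨1, 31, [31], [465, 9114, 14880, 291648]⟩

def lN31 : List (ℕ × ℕ) := [(2, 9), (3, 4), (5, 1), (7, 3), (11, 1), (19, 1)]

theorem cN31 : chkF l_opn n_opn iN31.a lN31 iN31.ords iN31.full 60 loc o_opn = true := by exact Cfsg.Agent.H493.Sep.chkF_fast (by decide +kernel)

/-- N11 -/
def iN11 : CI := ⟨2, 11, [11], [110, 594, 1320, 15840, 175560, 190080, 887040]⟩

def lN11 : List (ℕ × ℕ) := [(2, 9), (3, 4), (5, 1), (7, 3), (19, 1), (31, 1)]

theorem cN11 : chkF l_opn n_opn iN11.a lN11 iN11.ords iN11.full 60 loc o_opn = true := by exact Cfsg.Agent.H493.Sep.chkF_fast (by decide +kernel)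

/-- C2 -/
def iC2 : CI := ⟨3, 161280, [], [161280, 483840, 1128960, 1451520, 3386880, 7902720, 10160640, 23708160, 71124480]⟩

def lC2 : List (ℕ × ℕ) := [(3, 2), (7, 2), (11, 1), (19, 1), (31, 1)]

theorem cC2 : chkF l_opn n_opn iC2.a lC2 iC2.ords iC2.full 60 loc o_opn = true := by exact Cfsg.Agent.H493.Sep.chkF_fast (by decide +kernel)

/-- P3 -/
def iP3 : CI := ⟨4, 81, [3], [162, 405, 648, 1134, 1620, 2592, 2835, 4536, 6480, 7938, 8910, 10368, 11340, 18144, 19845, 25920, 31752, 35640, 41472, 45360, 55566, 72576, 79380, 103680, 127008, 138915, 142560, 181440, 222264, 290304, 317520, 508032, 555660, 570240, 725760, 889056, 1270080, 2032128, 2222640, 3556224, 3991680, 5080320, 5515776, 8890560, 14224896, 35562240]⟩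

def lP3 : List (ℕ × ℕ) := [(2, 9), (5, 1), (7, 3), (11, 1), (19, 1), (31, 1)]

theorem cP3 : chkF l_opn n_opn iP3.a lP3 iP3.ords iP3.full 60 loc o_opn = true := by exact Cfsg.Agent.H493.Sep.chkF_fast (by decide +kernel)

def items : List CI := [iH, iN31, iN11, iC2, iP3]

theorem cov : covB n_opn (fun _ _ => false) 4 items = true :=
  Cfsg.Agent.H940.EngF.cov_fast (by decide +kernel)

/-- the row `O'N` -/
theorem five (B : Base) : Sep 5 G := by
  have c := ctx B
  have := c.fin
  have := c.simple
  have hc := card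
  have := Fact.mk (by norm_num : Nat.Prime 3)
  obtain ⟨P3⟩ : Nonempty (Sylow 3 G) := inferInstance
  have c3 := card_sylow_eq hc P3 (k := 4) (by decide +kernel) (by decide +kernel)
  obtain ⟨R11, h11⟩ := exists_card_eq (G := G) (r := 11) (by decide +kernel) (by rw [hc]; decide +kernel)
  obtain ⟨R31, h31⟩ := exists_card_eq (G := G) (r := 31) (by decide +kernel) (by rw [hc]; decide +kernel)
  obtain ⟨H, -, -, -, -, hi, -⟩ := ONGeo.exists_H
  have hHc : Nat.card H = 3753792 := by
    have h1 := card_mul_index H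
    rw [hi, card] at h1
    have h2 : n_opn = 3753792 * 122760 := by decide +kernel
    rw [h2] at h1
    exact Nat.eq_of_mul_eq_mul_right (by norm_num) h1
  let A : CI → Subgroup G := fun x =>
    if x.id = 0 then H else if x.id = 1 then normalizer (R31 : Set G) else if x.id = 2 then normalizer (R11 : Set G)
    else if x.id = 3 then centralizer ({on .f} : Set G) else normalizer ((P3 : Subgroup G) : Set G)
  refine sep_of_cover hc (fun _ _ => false) items A ?_ (fun x _ y _ h => absurd h (by decide)) cov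
  intro x hx
  simp only [items, List.mem_cons, List.not_mem_nil, or_false] at hx
  rcases hx with rfl | rfl | rfl | rfl | rfl
  · exact c.goodD (A := H) (ne_top_of_card hc hHc (by decide +kernel)) (by rw [hHc]; decide +kernel) (full_nil _) lH 60 (chkO_of cH)
  · exact c.goodD (A := normalizer (R31 : Set G)) (norm_ne_top hc h31 (by norm_num) (by decide +kernel)) (dvd_norm h31)
      (full_of_singleton hc (by decide +kernel) (by decide +kernel) h31) lN31 60 (chkO_of cN31)
  · exact c.goodD (A := normalizer (R11 : Set G)) (norm_ne_top hc h11 (by norm_num) (by decide +kernel)) (dvd_norm h11)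
      (full_of_singleton hc (by decide +kernel) (by decide +kernel) h11) lN11 60 (chkO_of cN11)
  · exact c.goodD (A := centralizer ({on .f} : Set G)) (ne_top_of_card hc card_cent (by decide +kernel))
      (by rw [card_cent]; decide +kernel) (full_nil _) lC2 60 (chkO_of cC2)
  · exact c.goodD (A := normalizer ((P3 : Subgroup G) : Set G)) (norm_ne_top hc c3 (by norm_num) (by decide +kernel))
      (dvd_norm c3) (full_sylow P3) lP3 60 (chkO_of cP3)

end Cfsg.Agent.H493.Sep.RowON
end

private theorem dce_c7e98684d4a5 : _root_.True := by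
  try have : _root_.True := by simp only [_root_.Cfsg.Agent.H493.Sep.RowON.loc.eq_1]
  try have : _root_.True := by simp only [_root_.Cfsg.Agent.H493.Sep.RowON.items.eq_1]
  exact _root_.True.intro
end
end
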